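import Mathlib
import Cfsg.Prelude.Def_Involutions
import Cfsg.Prelude.Def_TwoFusion
import Cfsg.Agent.H24.PGroupBasic

/-!
A strongly closed 2-subgroup whose involution centralisers generate a proper subgroup satisfies the
hypotheses of Aschbacher's strong embedding criterion.
-/

set_option autoImplicit false

namespace Cfsg.Agent.H55

variable {G : Type*} [Group G] [Finite G]

/-- A `2`-group acting on a nontrivial `2`-subgroup centralises an involution of it. -/
theorem exists_involution_centralized {P D : Subgroup G} (hP : IsPGroup 2 P) (hD : IsPGroup 2 D)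
    (hne : D ≠ ⊥) (hPD : P ≤ Subgroup.normalizer (D : Set G)) :
    ∃ t ∈ D, orderOf t = 2 ∧ P ≤ Subgroup.centralizer ({t} : Set G) := by
  haveI : Fact (Nat.Prime 2) := ⟨Nat.prime_two⟩
  have hDn : D ≤ Subgroup.normalizer (D : Set G) := Subgroup.le_normalizer
  have hJ : IsPGroup 2 ↥(P ⊔ D) := hP.to_sup_of_normal_right' hD hPD
  haveI := hJ.isNilpotent
  have hn : (D.subgroupOf (P ⊔ D)).Normal :=
    (Subgroup.normal_subgroupOf_iff_le_normalizer le_sup_right).2 (sup_le hPD hDn)
  have hne' : D.subgroupOf (P ⊔ D) ≠ ⊥ := by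
    rw [Ne, Subgroup.subgroupOf_eq_bot, disjoint_iff, inf_eq_left.2 (le_sup_right : D ≤ P ⊔ D)]
    exact hne
  set Z := D.subgroupOf (P ⊔ D) ⊓ Subgroup.center ↥(P ⊔ D) with hZ
  haveI := hn
  have hZne : Z ≠ ⊥ := H24.inf_center_ne_bot hJ hne'
  haveI : Nontrivial Z := (Subgroup.nontrivial_iff_ne_bot Z).2 hZne
  obtain ⟨n, hn', hc⟩ := (IsPGroup.nontrivial_iff_card (hJ.to_subgroup Z)).1 inferInstance
  obtain ⟨w, hw⟩ := exists_prime_orderOf_dvd_card' 2 (hc ▸ dvd_pow_self 2 hn'.ne')
  refine ⟨((w : ↥(P ⊔ D)) : G), Subgroup.mem_subgroupOf.1 w.2.1, ?_, fun x hx => ?_⟩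
  · rw [Subgroup.orderOf_coe, Subgroup.orderOf_coe, hw]
  · refine Subgroup.mem_centralizer_singleton_iff.2 ?_
    exact congrArg Subtype.val (Subgroup.mem_center_iff.1 w.2.2 ⟨x, Subgroup.mem_sup_left hx⟩)

/-- Elements of `M` lying in a `2`-subgroup can be moved into a Sylow subgroup contained in `M`. -/
theorem exists_conj_mem_sylow {M : Subgroup G} (S : Sylow 2 G) (hSM : (S : Subgroup G) ≤ M)
    {P : Subgroup G} (hP : IsPGroup 2 P) (hPM : P ≤ M) :
    ∃ m ∈ M, ∀ x ∈ P, m * x * m⁻¹ ∈ (S : Subgroup G) := by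
  haveI : Fact (Nat.Prime 2) := ⟨Nat.prime_two⟩
  let S' : Sylow 2 M := S.subtype hSM
  obtain ⟨U, hU⟩ := (hP.comap_subtype (K := M)).exists_le_sylow
  obtain ⟨m, hm⟩ := MulAction.exists_smul_eq M U S'
  refine ⟨m, m.2, fun x hx => ?_⟩
  have h1 : (⟨x, hPM hx⟩ : M) ∈ (U : Subgroup M) := hU hx
  have h2 : m * ⟨x, hPM hx⟩ * m⁻¹ ∈ (S' : Subgroup M) := by
    rw [← hm]
    exact ⟨⟨x, hPM hx⟩, h1, rfl⟩
  exact h2

/-- The criterion hypotheses for a strongly closed subgroup with proper centraliser closure. -/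
theorem exists_criterion_data [IsSimpleGroup G] (S : Sylow 2 G) (T : Subgroup G) (hT1 : T ≠ ⊥)
    (hT : Cfsg.IsStronglyClosed T (S : Subgroup G))
    (hprop : (⨆ t : {t : G // t ∈ T ∧ orderOf t = 2}, Subgroup.centralizer ({(t : G)} : Set G)) ≠ ⊤) :
    ∃ (M : Subgroup G) (z : G), M ≠ ⊤ ∧ orderOf z = 2 ∧ z ∈ M ∧
      (∃ S : Sylow 2 G, z ∈ S ∧ ∀ s ∈ S, Commute s z) ∧
      (∀ g : G, g * z * g⁻¹ ∈ M → g ∈ M) ∧
      ∀ g : G, Commute z (g * z * g⁻¹) → g * z * g⁻¹ ≠ z →
        Subgroup.centralizer ({z * (g * z * g⁻¹)} : Set G) ≤ M := by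
  haveI : Fact (Nat.Prime 2) := ⟨Nat.prime_two⟩
  obtain ⟨hTS, hcl⟩ := hT
  set Γ := ⨆ t : {t : G // t ∈ T ∧ orderOf t = 2}, Subgroup.centralizer ({(t : G)} : Set G) with hΓ
  set N := Subgroup.normalizer (T : Set G) with hN
  set M := Γ ⊔ N with hM
  have hT2 : IsPGroup 2 T := S.isPGroup'.to_le hTS
  have hSN : (S : Subgroup G) ≤ N := by
    intro s hs
    refine Subgroup.mem_normalizer_iff.2 fun x => ⟨fun hx => hcl x hx s
      (mul_mem (mul_mem hs (hTS hx)) (inv_mem hs)), fun hx => ?_⟩
    have h := hcl _ hx s⁻¹ (mul_mem (mul_mem (inv_mem hs) (hTS hx)) (by simpa using hs))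
    simpa [mul_assoc] using h
  obtain ⟨z, hzT, hz, hzS⟩ := exists_involution_centralized S.isPGroup' hT2 hT1 hSN
  have hcM : ∀ {t : G}, t ∈ T → orderOf t = 2 → Subgroup.centralizer ({t} : Set G) ≤ M := by
    intro t ht ho
    exact le_trans (le_iSup (fun u : {t : G // t ∈ T ∧ orderOf t = 2} =>
      Subgroup.centralizer ({(u : G)} : Set G)) ⟨t, ht, ho⟩) le_sup_left
  have hNM : N ≤ M := le_sup_right
  have hΓn : N ≤ Subgroup.normalizer (Γ : Set G) := by
    have key : ∀ g ∈ N, Γ.map (MulAut.conj g).toMonoidHom ≤ Γ := by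
      intro g hg
      rw [hΓ, Subgroup.map_iSup]
      refine iSup_le fun t => le_trans ?_ (le_iSup (fun u : {t : G // t ∈ T ∧ orderOf t = 2} =>
        Subgroup.centralizer ({(u : G)} : Set G)) ⟨g * t * g⁻¹,
          (Subgroup.mem_normalizer_iff.1 hg _).1 t.2.1, by
            rw [show g * (t : G) * g⁻¹ = MulAut.conj g t from rfl,
              MulEquiv.orderOf_eq, t.2.2]⟩)
      rintro _ ⟨c, hc, rfl⟩
      refine Subgroup.mem_centralizer_singleton_iff.2 ?_
      simp only [MulEquiv.coe_toMonoidHom, MulAut.conj_apply]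
      have := Subgroup.mem_centralizer_singleton_iff.1 hc
      calc g * c * g⁻¹ * (g * t * g⁻¹) = g * (c * t) * g⁻¹ := by group
        _ = g * (t * c) * g⁻¹ := by rw [this]
        _ = _ := by group
    intro g hg
    refine Subgroup.mem_normalizer_iff.2 fun x => ⟨fun hx => key g hg ⟨x, hx, rfl⟩, fun hx => ?_⟩
    have h := key g⁻¹ (inv_mem hg) ⟨_, hx, rfl⟩
    simpa [mul_assoc] using h
  have hMtop : M ≠ ⊤ := by
    intro h
    have hn : Γ.Normal := Subgroup.normalizer_eq_top_iff.1
      (top_le_iff.1 (h ▸ sup_le Subgroup.le_normalizer hΓn))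
    rcases hn.eq_bot_or_eq_top with hb | hb
    · have hzΓ : z ∈ Γ := (le_iSup (fun u : {t : G // t ∈ T ∧ orderOf t = 2} =>
        Subgroup.centralizer ({(u : G)} : Set G)) ⟨z, hzT, hz⟩)
        (Subgroup.mem_centralizer_singleton_iff.2 rfl)
      rw [hb, Subgroup.mem_bot] at hzΓ
      rw [hzΓ, orderOf_one] at hz
      omega
    · exact hprop hb
  have hSM : (S : Subgroup G) ≤ M := hSN.trans hNM
  -- fusion in `T` is controlled by `M`
  have hfus : ∀ n : ℕ, ∀ D : Subgroup G, Nat.card T ≤ Nat.card D + n → D ≤ T → D ≠ ⊥ →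
      ∀ g : G, (∀ x ∈ D, g * x * g⁻¹ ∈ T) → g ∈ M := by
    intro n
    induction n with
    | zero =>
      intro D hcard hD _ g hg
      have hDT : D = T := Subgroup.eq_of_le_of_card_ge hD (by simpa using hcard)
      subst hDT
      refine hNM (Subgroup.mem_normalizer_iff.2 fun x => ⟨hg x, fun hx => ?_⟩)
      have he : D.map (MulAut.conj g).toMonoidHom = D := Subgroup.eq_of_le_of_card_ge
        (by rintro _ ⟨a, ha, rfl⟩; exact hg a ha)
        (le_of_eq (Subgroup.card_map_of_injective (MulAut.conj g).injective).symm)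
      rw [← he] at hx
      obtain ⟨a, ha, hax⟩ := hx
      have : a = x := (MulAut.conj g).injective hax
      exact this ▸ ha
    | succ k ih =>
      intro D hcard hD hne g hg
      by_cases heq : D = T
      · exact ih D (by rw [heq]; omega) hD hne g hg
      set R := T ⊓ Subgroup.normalizer (D : Set G) with hR
      have hlt : Nat.card D < Nat.card R := by
        haveI := hT2.isNilpotent
        have h1 : (D.subgroupOf T) < Subgroup.normalizer ((D.subgroupOf T) : Set T) :=
          normalizerCondition_of_isNilpotent _ (lt_top_iff_ne_top.2 fun h =>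
            heq (le_antisymm hD (Subgroup.subgroupOf_eq_top.1 h)))
        obtain ⟨a, ha, haD⟩ := SetLike.exists_of_lt h1
        have haN : (a : G) ∈ R := by
          refine ⟨a.2, Subgroup.mem_normalizer_iff.2 fun x => ?_⟩
          have hh := Subgroup.mem_normalizer_iff.1 ha
          constructor
          · intro hx
            exact (hh ⟨x, hD hx⟩).1 hx
          · intro hx
            have hxT : x ∈ T := by
              have := mul_mem (mul_mem (inv_mem a.2) (hD hx)) a.2
              simpa [mul_assoc] using this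
            exact (hh ⟨x, hxT⟩).2 hx
        by_contra hc
        push Not at hc
        have := Subgroup.eq_of_le_of_card_ge (show D ≤ R from le_inf hD Subgroup.le_normalizer) hc
        exact haD (Subgroup.mem_subgroupOf.2 (this ▸ haN))
      have hRne : R ≠ ⊥ := by
        intro h
        rw [h, Subgroup.card_bot] at hlt
        have := Nat.card_pos (α := D)
        omega
      -- the image of `R` lies in a centraliser
      set R' := R.map (MulAut.conj g).toMonoidHom with hR'
      set D' := D.map (MulAut.conj g).toMonoidHom with hD'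
      have hD'T : D' ≤ T := by rintro _ ⟨a, ha, rfl⟩; exact hg a ha
      have hR'N : R' ≤ Subgroup.normalizer (D' : Set G) := by
        refine le_trans (Subgroup.map_mono inf_le_right) ?_
        exact Subgroup.le_normalizer_map _
      have hR'2 : IsPGroup 2 R' := (hT2.to_le inf_le_left).map _
      obtain ⟨t, htD, ht, htC⟩ := exists_involution_centralized hR'2 (hT2.to_le hD'T)
        (fun h => hne ((Subgroup.map_eq_bot_iff_of_injective _ (MulAut.conj g).injective).1 h)) hR'N
      obtain ⟨m, hm, hmS⟩ := exists_conj_mem_sylow S hSM hR'2 (htC.trans (hcM (hD'T htD) ht))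
      have hmg : m * g ∈ M := by
        refine ih R (by omega) inf_le_left hRne (m * g) fun x hx => ?_
        refine hcl x hx.1 (m * g) ?_
        have := hmS _ ⟨x, hx, rfl⟩
        simpa [mul_assoc] using this
      simpa using mul_mem (inv_mem hm) hmg
  have hone : ∀ t : G, orderOf t = 2 → IsPGroup 2 (Subgroup.zpowers t) := fun t ht =>
    IsPGroup.of_card (n := 1) (by rw [Nat.card_zpowers, ht, pow_one])
  refine ⟨M, z, hMtop, hz, hSM (hTS hzT), ⟨S, hTS hzT, fun s hs =>
    Subgroup.mem_centralizer_singleton_iff.1 (hzS hs)⟩, fun g hg => ?_, fun g hg hne => ?_⟩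
  · set z' := g * z * g⁻¹ with hz'
    have hz'2 : orderOf z' = 2 := by
      rw [hz', show g * z * g⁻¹ = MulAut.conj g z from rfl,
        MulEquiv.orderOf_eq, hz]
    obtain ⟨m, hm, hmS⟩ := exists_conj_mem_sylow S hSM (hone z' hz'2) (Subgroup.zpowers_le.2 hg)
    have h1 : (m * g) * z * (m * g)⁻¹ ∈ T := hcl z hzT _ (by
      have := hmS z' (Subgroup.mem_zpowers _)
      simpa [hz', mul_assoc] using this)
    have hmg : m * g ∈ M := hfus (Nat.card T) (Subgroup.zpowers z) (by omega)
      (Subgroup.zpowers_le.2 hzT) (by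
        rw [Ne, Subgroup.zpowers_eq_bot]; intro h; rw [h, orderOf_one] at hz; omega) _
      (by
        rintro x ⟨i, rfl⟩
        rw [← conj_zpow]
        exact zpow_mem h1 i)
    simpa using mul_mem (inv_mem hm) hmg
  · set z' := g * z * g⁻¹ with hz'
    have hz'2 : orderOf z' = 2 := by
      rw [hz', show g * z * g⁻¹ = MulAut.conj g z from rfl,
        MulEquiv.orderOf_eq, hz]
    obtain ⟨c, hc, hcS⟩ := exists_conj_mem_sylow (M := Subgroup.centralizer ({z} : Set G)) S hzS
      (hone z' hz'2) (Subgroup.zpowers_le.2 (Subgroup.mem_centralizer_singleton_iff.2 hg.eq.symm))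
    have hcz : c * z * c⁻¹ = z := by
      rw [Subgroup.mem_centralizer_singleton_iff.1 hc, mul_inv_cancel_right]
    have h1 : c * z' * c⁻¹ ∈ T := by
      have := hcl z hzT (c * g) (by
        have := hcS z' (Subgroup.mem_zpowers _)
        simpa [hz', mul_assoc] using this)
      simpa [hz', mul_assoc] using this
    have h2 : c * (z * z') * c⁻¹ ∈ T := by
      rw [show c * (z * z') * c⁻¹ = (c * z * c⁻¹) * (c * z' * c⁻¹) by group, hcz]
      exact mul_mem hzT h1
    have hord : orderOf (c * (z * z') * c⁻¹) = 2 := by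
      rw [show c * (z * z') * c⁻¹ = MulAut.conj c (z * z') from rfl,
        MulEquiv.orderOf_eq]
      refine orderOf_eq_prime ?_ fun h => hne ?_
      · have e1 : z ^ 2 = 1 := by rw [← hz, pow_orderOf_eq_one]
        have e2 : z' ^ 2 = 1 := by rw [← hz'2, pow_orderOf_eq_one]
        rw [hg.mul_pow, e1, e2, one_mul]
      · have e1 : z * z = 1 := by rw [← sq, ← hz, pow_orderOf_eq_one]
        exact mul_left_cancel (h.trans e1.symm)
    intro x hx
    have hcM' : c ∈ M := hcM hzT hz hc
    have hx' : c * x * c⁻¹ ∈ M := hcM h2 hord (Subgroup.mem_centralizer_singleton_iff.2 (by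
      have := Subgroup.mem_centralizer_singleton_iff.1 hx
      calc c * x * c⁻¹ * (c * (z * z') * c⁻¹) = c * (x * (z * z')) * c⁻¹ := by group
        _ = c * ((z * z') * x) * c⁻¹ := by rw [this]
        _ = _ := by group))
    simpa [mul_assoc] using mul_mem (mul_mem (inv_mem hcM') hx') hcM'

end Cfsg.Agent.H55
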